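import Cfsg.Agent.PGroup.SmallExponent

/-!
A normal abelian subgroup of small exponent detecting coprime automorphisms.
-/

set_option autoImplicit false

open scoped commutatorElement

namespace CfsgLib.SmallControl

open CfsgLib.PGroup

/-- Abelian of exponent dividing `p` (`p` odd), `4` (`p = 2`). -/
def Small {P : Type*} [Group P] (p : ℕ) (A : Subgroup P) : Prop :=
  (∀ a ∈ A, ∀ b ∈ A, a * b = b * a) ∧ ∀ a ∈ A, a ^ smallExp p = 1

/-- A central small subgroup lies in a normal small subgroup whose coprime centralizer in `Aut P` is trivial. -/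
theorem exists_detecting {P : Type*} [Group P] [Finite P] {p : ℕ} [hp : Fact p.Prime] (hP : IsPGroup p P)
    {Z : Subgroup P} (hZc : Z ≤ Subgroup.center P) (hZ : Small p Z) :
    ∃ A : Subgroup P, A.Normal ∧ Z ≤ A ∧ Small p A ∧
      ∀ α : MulAut P, (orderOf α).Coprime p → (∀ a ∈ A, α a = a) → α = 1 := by
  obtain ⟨H, hH⟩ := exists_critical (p := p) hP ⊤ fun _ => Subgroup.mem_top _
  haveI hHn : H.Normal := ⟨fun x hx g => by simpa using hH.invariant (MulAut.conj g) (Subgroup.mem_top _) x hx⟩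
  have hcl : ∀ x ∈ H, ∀ y ∈ H, ⁅x, y⁆ ∈ Subgroup.centralizer (H : Set P) := fun x hx y _ =>
    (hH.commutator_le (Subgroup.commutator_mem_commutator hx (Subgroup.mem_top y))).2
  set O := smallSubgroup H H hH.pow_mem hcl le_rfl
  have hOinv : ∀ α : MulAut P, ∀ x ∈ O, α x ∈ O := fun α x hx =>
    ⟨hH.invariant α (Subgroup.mem_top _) x hx.1, by rw [← map_pow, hx.2, map_one]⟩
  haveI hOn : O.Normal := ⟨fun x hx g => by simpa using hOinv (MulAut.conj g) x hx⟩
  have hZO : Z ≤ O := fun z hz => ⟨hH.centralizer_le (Subgroup.mem_centralizer_iff.2 fun h _ =>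
    Subgroup.mem_center_iff.1 (hZc hz) h), hZ.2 z hz⟩
  obtain ⟨A, ⟨hAn, hZA, hAO, hAab⟩, hmax⟩ := (Set.toFinite {A : Subgroup P | A.Normal ∧ Z ≤ A ∧ A ≤ O ∧
    ∀ a ∈ A, ∀ b ∈ A, a * b = b * a}).exists_maximal
    ⟨Z, ⟨fun z hz g => by rwa [Subgroup.mem_center_iff.1 (hZc hz) g, mul_inv_cancel_right]⟩, le_rfl, hZO, hZ.1⟩
  refine ⟨A, hAn, hZA, ⟨hAab, fun a ha => (hAO ha).2⟩, ?_⟩
  haveI := hAn
  set C := O ⊓ Subgroup.centralizer (A : Set P)
  have hCA : C ≤ A := by
    by_contra hne
    have hlt : A < C := lt_of_le_not_ge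
      (le_inf hAO fun a ha => Subgroup.mem_centralizer_iff.2 fun b hb => hAab b hb a ha) hne
    obtain ⟨x, hx, hxA, hxg⟩ := exists_mem_central_mod hP hlt
    refine hxA ((hmax ⟨⟨fun y hy g => ?_⟩, hZA.trans le_sup_left,
      sup_le hAO (Subgroup.zpowers_le.2 hx.1), ?_⟩ le_sup_left) (Subgroup.mem_sup_right (Subgroup.mem_zpowers x)))
    · have hle : A ⊔ Subgroup.zpowers x ≤ (A ⊔ Subgroup.zpowers x).comap (MulAut.conj g).toMonoidHom := by
        refine sup_le (fun a ha => Subgroup.mem_sup_left (hAn.conj_mem a ha g)) (Subgroup.zpowers_le.2 ?_)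
        show g * x * g⁻¹ ∈ A ⊔ Subgroup.zpowers x
        rw [show g * x * g⁻¹ = ⁅x, g⁆⁻¹ * x by rw [commutatorElement_def]; group]
        exact Subgroup.mul_mem_sup (A.inv_mem (hxg g)) (Subgroup.mem_zpowers x)
      exact hle hy
    · intro a ha b hb
      have h1 : A ⊔ Subgroup.zpowers x ≤ Subgroup.centralizer ((A ⊔ Subgroup.zpowers x : Subgroup P) : Set P) := by
        have hxc : ∀ c ∈ A, c * x = x * c := fun c hc => Subgroup.mem_centralizer_iff.1 hx.2 c hc
        refine sup_le (fun c hc => ?_) (Subgroup.zpowers_le.2 ?_) <;>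
          rw [Subgroup.mem_centralizer_iff] <;> intro d hd
        · have : A ⊔ Subgroup.zpowers x ≤ Subgroup.centralizer {c} :=
            sup_le (fun d hd => Subgroup.mem_centralizer_singleton_iff.2 (hAab d hd c hc))
              (Subgroup.zpowers_le.2 (Subgroup.mem_centralizer_singleton_iff.2 (hxc c hc).symm))
          exact Subgroup.mem_centralizer_singleton_iff.1 (this hd)
        · have : A ⊔ Subgroup.zpowers x ≤ Subgroup.centralizer {x} :=
            sup_le (fun d hd => Subgroup.mem_centralizer_singleton_iff.2 (hxc d hd))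
              (Subgroup.zpowers_le.2 (Subgroup.mem_centralizer_singleton_iff.2 rfl))
          exact Subgroup.mem_centralizer_singleton_iff.1 (this hd)
      exact (Subgroup.mem_centralizer_iff.1 (h1 ha) b hb).symm
  intro α hco hfix
  have hfixO : ∀ x ∈ O, α x = x := by
    intro x hx
    refine apply_eq_of_diff_fixed hP hco (hfix _ (hCA ⟨O.mul_mem (O.inv_mem hx) (hOinv α x hx),
      Subgroup.mem_centralizer_iff.2 fun a ha => ?_⟩))
    have h1 := hfix _ (hAn.conj_mem a ha x)
    rw [map_mul, map_mul, map_inv, hfix a ha] at h1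
    calc a * (x⁻¹ * α x) = x⁻¹ * (x * a * x⁻¹) * α x := by group
      _ = x⁻¹ * (α x * a * (α x)⁻¹) * α x := by rw [h1]
      _ = x⁻¹ * α x * a := by group
  exact eq_one_of_fixes_selfCentralizing hP hH.centralizer_le hco
    (fixes_of_fixes_small hP hH.pow_mem hcl le_rfl hco (fun x hx => hH.invariant α (Subgroup.mem_top _) x hx)
      fun x hx hx' => hfixO x ⟨hx, hx'⟩)

end CfsgLib.SmallControl
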