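import Cfsg.Agent.Fusion.KNormalizer
import Cfsg.Agent.Fusion.AlperinCor
import Cfsg.Agent.Fusion.ChainStab
import Cfsg.Agent.Fusion.CentricMeet
import Cfsg.Agent.PGroup.SmallExponent

/-!
The `K`-normalizer system as a fusion system, and two properties of radical subgroups.
-/

set_option autoImplicit false
set_option linter.style.haveILetI false

open Cfsg

namespace CfsgLib.SmallControl

open Cfsg.FusionSystem CfsgLib.Fusion

variable {Ω : Type*} [Group Ω] {S : Subgroup Ω} {Q : Subgroup Ω}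

/-- `N_F^K(Q)` over `N_S^K(Q)`. -/
def kSystem (F : Cfsg.FusionSystem S) (hQ : Q ≤ S) (K : Subgroup (MulAut Q)) : Cfsg.FusionSystem (NK S K) where
  Hom P := {φ | P ≤ NK S K ∧ (∀ x, φ x ∈ NK S K) ∧
    ∃ ψ ∈ F.Hom (P ⊔ Q), (∀ x : P, ψ (Subgroup.inclusion le_sup_left x) = φ x) ∧
      ∃ κ ∈ K, ∀ q : Q, ψ (Subgroup.inclusion le_sup_right q) = ((κ q : Q) : Ω)}
  le_of_mem h := ⟨h.1, h.2.1⟩
  injective_of_mem := by
    rintro P φ ⟨-, -, ψ, hψ, hψφ, -⟩ x y h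
    rw [← hψφ, ← hψφ] at h
    exact Subgroup.inclusion_injective le_sup_left (F.injective_of_mem hψ h)
  conj_mem := by
    intro P g hP hg
    obtain ⟨hgS, κ, hκ, hκg⟩ := mem_NK.1 hg
    have hPS : P ≤ S := hP.trans ((NK_le_normalizerIn K).trans inf_le_left)
    exact ⟨hP, fun x => (NK S K).mul_mem ((NK S K).mul_mem hg (hP x.2)) (inv_mem hg), conjHom (P ⊔ Q) g,
      F.conj_mem (sup_le hPS hQ) hgS, fun x => rfl, κ, hκ, fun q => (hκg q).symm⟩
  comp_mem := by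
    rintro P R φ ψ ⟨hP, hφN, α, hα, hαφ, κ, hκ, hακ⟩ ⟨hR, hψN, β, hβ, hβψ, μ, hμ, hβμ⟩ h
    have hαR : ∀ x : ↥(P ⊔ Q), α x ∈ R ⊔ Q := by
      intro x
      have hle : P ⊔ Q ≤ ((R ⊔ Q).comap α).map (P ⊔ Q).subtype := sup_le
        (fun y hy => ⟨⟨y, Subgroup.mem_sup_left hy⟩, Subgroup.mem_sup_left (show α _ ∈ R from by
          have := h ⟨y, hy⟩
          rw [← hαφ ⟨y, hy⟩] at this
          exact this), rfl⟩)
        (fun y hy => ⟨⟨y, Subgroup.mem_sup_right hy⟩, Subgroup.mem_sup_right (show α _ ∈ Q from by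
          exact (hακ ⟨y, hy⟩).symm ▸ SetLike.coe_mem _), rfl⟩)
      obtain ⟨z, hz, hzx⟩ := hle x.2
      rwa [← (Subtype.ext hzx : z = x)]
    refine ⟨hP, fun x => hψN _, β.comp (α.codRestrict _ hαR), F.comp_mem hα hβ hαR, fun x => ?_, μ * κ,
      K.mul_mem hμ hκ, fun q => ?_⟩
    · show β ⟨α _, _⟩ = ψ ⟨φ x, _⟩
      rw [← hβψ ⟨φ x, h x⟩]
      congr 1
      exact Subtype.ext (hαφ x)
    · show β ⟨α _, _⟩ = _
      rw [MulAut.mul_apply, ← hβμ]
      congr 1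
      exact Subtype.ext (hακ q)
  inv_mem := by
    rintro P φ ⟨hP, hφN, α, hα, hαφ, κ, hκ, hακ⟩
    obtain ⟨γ, hγ, -, hγ1, -⟩ := exists_inv hα (rfl : α.range = α.range)
    have hle : φ.range ≤ α.range := by rintro _ ⟨x, rfl⟩; exact ⟨_, hαφ x⟩
    have hQle : Q ≤ α.range := fun y hy => ⟨Subgroup.inclusion le_sup_right (κ⁻¹ ⟨y, hy⟩), by
      rw [hακ, MulAut.apply_inv_self]⟩
    have hback : ∀ x : P, γ ⟨φ x, hle ⟨x, rfl⟩⟩ = x := by
      intro x
      rw [← show γ ⟨α (Subgroup.inclusion le_sup_left x), ⟨_, rfl⟩⟩ = x from hγ1 _ _]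
      congr 1
      exact Subtype.ext (hαφ x).symm
    refine ⟨γ.comp (Subgroup.inclusion hle), ⟨?_, ?_, γ.comp (Subgroup.inclusion (sup_le hle hQle)),
      restrict hγ (sup_le hle hQle), fun x => rfl, κ⁻¹, K.inv_mem hκ, fun q => ?_⟩, hback⟩
    · rintro _ ⟨x, rfl⟩; exact hφN x
    · rintro ⟨_, x, rfl⟩
      have := hback x
      show γ _ ∈ _
      exact Eq.subst (motive := fun t => t ∈ _) this.symm (hP x.2)
    · show γ _ = _
      refine Eq.trans ?_ (hγ1 (Subgroup.inclusion le_sup_right (κ⁻¹ q)) ⟨_, rfl⟩)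
      congr 1
      refine Subtype.ext (Eq.symm ?_)
      show α _ = _
      rw [hακ, MulAut.apply_inv_self]
      rfl

theorem isKSystem_kSystem (F : Cfsg.FusionSystem S) (hQ : Q ≤ S) (K : Subgroup (MulAut Q)) :
    IsKSystem F K (kSystem F hQ K) := fun _ _ => Iff.rfl

variable {F : Cfsg.FusionSystem S} {R Y : Subgroup Ω} {p : ℕ} [Fact p.Prime] [Finite S]

/-- An automorphism in the system stabilizing `1 ≤ Y ≤ R` is inner when `O_p` is. -/
theorem mem_inn_of_stab (hS : IsPGroup p S) (hRS : R ≤ S)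
    (hrad : (Cfsg.pCore p (F.autGroup R)).map (F.autGroup R).subtype ≤ Cfsg.Inn R) (hYR : Y ≤ R)
    (hY : ∀ a ∈ F.autGroup R, ∀ y : R, (y : Ω) ∈ Y → ((a y : R) : Ω) ∈ Y) {α : MulAut R}
    (hα : α ∈ F.autGroup R) (hfix : ∀ y : R, (y : Ω) ∈ Y → α y = y)
    (hmove : ∀ y : R, ((y⁻¹ * α y : R) : Ω) ∈ Y) : α ∈ Cfsg.Inn R := by
  haveI := finite_of_le hRS
  haveI := finite_mulAut hRS
  let L : ℕ → Subgroup Ω := fun i => if i = 0 then ⊥ else if i = 1 then Y else R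
  have hL : Monotone L := monotone_nat_of_le_succ fun i => by
    rcases i with _ | _ | i
    · exact bot_le
    · exact hYR
    · exact le_rfl
  have hst : α ∈ chainStab L 2 hL := by
    refine mem_chainStab.2 fun i hi x hx => ?_
    rcases i with _ | _ | i
    · show _ ∈ (⊥ : Subgroup Ω)
      rw [hfix x hx, inv_mul_cancel]
      exact one_mem _
    · exact hmove x
    · omega
  refine hrad (chainStab_le_pCore (p := p) (hS.to_le hRS) hL rfl le_rfl (F.autGroup R) (fun γ hγ i x hx => ?_) ⟨hst, hα⟩)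
  rcases i with _ | _ | i
  · have hx1 : x = 1 := Subtype.ext (Subgroup.mem_bot.1 hx)
    rw [hx1, map_one]
    exact one_mem _
  · exact hY γ hγ x hx
  · exact (γ x).2

/-- An element normalizing a centric radical subgroup and stabilizing such a chain lies in it. -/
theorem mem_of_stab (hS : IsPGroup p S) (hcen : centralizerIn S R ≤ R) (hRS : R ≤ S)
    (hrad : (Cfsg.pCore p (F.autGroup R)).map (F.autGroup R).subtype ≤ Cfsg.Inn R) (hYR : Y ≤ R)
    (hY : ∀ a ∈ F.autGroup R, ∀ y : R, (y : Ω) ∈ Y → ((a y : R) : Ω) ∈ Y) {w : Ω} (hw : w ∈ S)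
    (hwN : w ∈ Subgroup.normalizer (R : Set Ω)) (hwY : ∀ y ∈ Y, w * y * w⁻¹ = y)
    (hwR : ∀ x ∈ R, x⁻¹ * (w * x * w⁻¹) ∈ Y) : w ∈ R := by
  have hI := mem_inn_of_stab hS hRS hrad hYR hY (α := conjAut R S ⟨w, hw, hwN⟩)
    (autInducedBy_le_autGroup hRS (conjAut_mem _)) (fun y hy => Subtype.ext (hwY y hy)) fun y => hwR y y.2
  obtain ⟨g, hg⟩ := hI
  have hgw : (g : Ω)⁻¹ * w ∈ centralizerIn S R := by
    refine ⟨S.mul_mem (S.inv_mem (hRS g.2)) hw, Subgroup.mem_centralizer_iff.2 fun e he => ?_⟩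
    have h : (g : Ω) * e * (g : Ω)⁻¹ = w * e * w⁻¹ :=
      (congrArg Subtype.val (DFunLike.congr_fun hg (⟨e, he⟩ : R)) :)
    calc e * ((g : Ω)⁻¹ * w) = (g : Ω)⁻¹ * ((g : Ω) * e * (g : Ω)⁻¹) * w := by group
      _ = (g : Ω)⁻¹ * (w * e * w⁻¹) * w := by rw [h]
      _ = (g : Ω)⁻¹ * w * e := by group
  simpa using R.mul_mem g.2 (hcen hgw)

end CfsgLib.SmallControl
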