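import Cfsg.Agent.SmallControl.KSystem

/-!
Tools on centric radical subgroups and moving a map to a fully normalized subgroup of a subsystem.
-/

set_option autoImplicit false
set_option linter.style.haveILetI false

open Cfsg
open scoped Pointwise

namespace CfsgLib.SmallControl

open Cfsg.FusionSystem CfsgLib.Fusion

variable {Ω : Type*} [Group Ω] {S : Subgroup Ω} [Finite S] {F : Cfsg.FusionSystem S} {R C : Subgroup Ω}
  {p : ℕ} [Fact p.Prime]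

/-- A subgroup normalized by `R` whose elements normalizing `R` lie in `R` lies in `R`. -/
theorem le_of_absorb (hS : IsPGroup p S) (hRS : R ≤ S) (hCS : C ≤ S) (hRC : R ≤ Subgroup.normalizer (C : Set Ω))
    (h : ∀ a ∈ C, a ∈ Subgroup.normalizer (R : Set Ω) → a ∈ R) : C ≤ R := by
  by_contra hne
  have hlt : R < C ⊔ R := lt_of_le_of_ne le_sup_right fun e => hne (e ▸ le_sup_left)
  haveI := finite_of_le (sup_le hCS hRS)
  obtain ⟨g, hg, hgR⟩ := exists_normalizerIn_not_mem (S := C ⊔ R) (hS.to_le (sup_le hCS hRS)) hlt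
  have hg1 : g ∈ ((C ⊔ R : Subgroup Ω) : Set Ω) := hg.1
  rw [Subgroup.coe_mul_of_right_le_normalizer_left C R hRC] at hg1
  obtain ⟨a, ha, r, hr, rfl⟩ := hg1
  refine hgR (R.mul_mem (h a ha ?_) hr)
  have h2 := Subgroup.mul_mem _ hg.2 (Subgroup.inv_mem _ (Subgroup.le_normalizer hr : r ∈ Subgroup.normalizer (R : Set Ω)))
  rwa [mul_inv_cancel_right] at h2

/-- A subgroup containing a Sylow subgroup and all elements of order prime to `p` is everything. -/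
theorem le_of_coprime {G : Type*} [Group G] [Finite G] {B : Subgroup G} (T : Sylow p G) (hT : (T : Subgroup G) ≤ B)
    (hco : ∀ g : G, (orderOf g).Coprime p → g ∈ B) : B = ⊤ := by
  refine Subgroup.eq_top_of_card_eq B (Nat.dvd_antisymm B.card_subgroup_dvd_card ?_)
  rw [← Nat.factorization_prime_le_iff_dvd Nat.card_pos.ne' Nat.card_pos.ne']
  intro q hq
  haveI := Fact.mk hq
  refine (hq.pow_dvd_iff_le_factorization Nat.card_pos.ne').1 ?_
  by_cases hqp : q = p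
  · subst hqp
    rw [← T.card_eq_multiplicity]
    exact Subgroup.card_dvd_of_le hT
  · obtain ⟨U⟩ : Nonempty (Sylow q G) := inferInstance
    rw [← U.card_eq_multiplicity]
    refine Subgroup.card_dvd_of_le fun g hg => hco g ?_
    obtain ⟨k, hk⟩ := IsPGroup.iff_orderOf.1 U.isPGroup' ⟨g, hg⟩
    rw [Subgroup.orderOf_mk] at hk
    rw [hk]
    exact ((Nat.coprime_primes hq (Fact.out : p.Prime)).2 hqp).pow_left k

/-- A map of the larger system on `R`, agreeing on `Y` with a map of the smaller system with image normalized by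
`R`, differs by maps of the smaller system from one fixing the image of `Y` pointwise. -/
theorem exists_transport (hS : IsPGroup p S) {Fk Ek : Cfsg.FusionSystem S} (hEk : Ek.IsSaturated p)
    {g : MulAut R} (hg : g ∈ Fk.autGroup R) (hle : Ek ≤ Fk) (hRS : R ≤ S) {Y : Subgroup Ω} (hYR : Y ≤ R)
    (hYn : R ≤ Subgroup.normalizer (Y : Set Ω))
    (hgY : (R.subtype.comp g.toMonoidHom).comp (Subgroup.inclusion hYR) ∈ Ek.Hom Y) :
    ∃ (R1 R2 Y2 : Subgroup Ω) (e1 : R ≃* R1) (e2 : R ≃* R2), IsoIn Ek e1 ∧ IsoIn Ek e2 ∧ Y2 ≤ R1 ∧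
      R1 ≤ Subgroup.normalizer (Y2 : Set Ω) ∧ R2 ≤ Subgroup.normalizer (Y2 : Set Ω) ∧
      Ek.IsConj Y Y2 ∧ IsoIn Fk (e1.symm.trans (g.trans e2)) ∧
      (∀ x : R1, (x : Ω) ∈ Y2 → ((e2 (g (e1.symm x)) : R2) : Ω) = x) ∧
      ∀ x : R, (x : Ω) ∈ Y → ((e1 x : R1) : Ω) = ((e2 (g x) : R2) : Ω) ∧ ((e1 x : R1) : Ω) ∈ Y2 := by
  set φY := (R.subtype.comp g.toMonoidHom).comp (Subgroup.inclusion hYR) with hφY
  set Y1 := φY.range with hY1
  have hY1R : Y1 ≤ R := by rintro _ ⟨y, rfl⟩; exact (g _).2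
  have hRN1 : R ≤ Subgroup.normalizer (Y1 : Set Ω) := by
    have key : ∀ r ∈ R, ∀ z ∈ Y1, r * z * r⁻¹ ∈ Y1 := by
      rintro r hr _ ⟨y, rfl⟩
      obtain ⟨r0, hr0⟩ := g.surjective ⟨r, hr⟩
      refine ⟨⟨(r0 : Ω) * y * (r0 : Ω)⁻¹, conj_mem_of_normalizer (hYn r0.2) y.2⟩, ?_⟩
      show ((g (r0 * Subgroup.inclusion hYR y * r0⁻¹) : R) : Ω) = _
      rw [map_mul, map_mul, map_inv, hr0]
      rfl
    intro r hr
    refine Subgroup.mem_normalizer_iff.2 fun z => ⟨key r hr z, fun hz => ?_⟩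
    simpa [mul_assoc] using key r⁻¹ (R.inv_mem hr) _ hz
  obtain ⟨Y2, hc2, hn2⟩ := exists_fullyNormalized (F := Ek) (hY1R.trans hRS)
  obtain ⟨χ, hχ, hY1N, hχr, -⟩ := exists_map_normalizer p hS (fullyAutomized_of_fullyNormalized hS hEk hn2)
    (receptive_of_fullyNormalized hS hEk hn2) hc2
  have hRN : R ≤ normalizerIn S Y1 := le_inf hRS hRN1
  have hω : Ek.IsConj Y Y1 := ⟨_, hgY, rfl⟩
  let ω : Y →* Ω := χ.comp ((Subgroup.inclusion hY1N).comp φY.rangeRestrict)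
  have hωm : ω ∈ Ek.Hom Y := comp_of_eq hgY hχ (fun y => hY1N ⟨y, rfl⟩) fun y => rfl
  have hωr : ω.range = Y2 := by
    rw [← hχr]
    ext z
    constructor
    · rintro ⟨y, rfl⟩; exact ⟨⟨φY y, ⟨y, rfl⟩⟩, rfl⟩
    · rintro ⟨⟨_, y, rfl⟩, rfl⟩; exact ⟨y, rfl⟩
  obtain ⟨ψ, hψ, hψag⟩ := (receptive_of_fullyNormalized hS hEk hn2).2 Y ω hωm hωr
  have hRD : R ≤ extender S Y ω := by
    intro r hr
    refine mem_extender.2 ⟨hRS hr, hYn hr, χ ⟨(g ⟨r, hr⟩ : R), hRN (g _).2⟩, val_mem hχ _, fun y hy => ?_⟩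
    show χ ⟨φY ⟨r * y * r⁻¹, hy⟩, _⟩ = _ * χ ⟨φY y, _⟩ * _
    rw [← map_inv, ← map_mul, ← map_mul]
    congr 1
    refine Subtype.ext ?_
    show ((g (⟨r, hr⟩ * Subgroup.inclusion hYR y * (⟨r, hr⟩)⁻¹) : R) : Ω) = _
    rw [map_mul, map_mul, map_inv]
    rfl
  set ψR := ψ.comp (Subgroup.inclusion hRD)
  have hψR : ψR ∈ Ek.Hom R := restrict hψ hRD
  set χR := χ.comp (Subgroup.inclusion hRN)
  have hχR : χR ∈ Ek.Hom R := restrict hχ hRN
  set e1 := isoOfHom (Ek.injective_of_mem hψR) (rfl : ψR.range = ψR.range)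
  set e2 := isoOfHom (Ek.injective_of_mem hχR) (rfl : χR.range = χR.range)
  have he1 : IsoIn Ek e1 := isoIn_isoOfHom hψR rfl
  have he2 : IsoIn Ek e2 := isoIn_isoOfHom hχR rfl
  have hval : ∀ x : R, (hx : (x : Ω) ∈ Y) → ((e1 x : ψR.range) : Ω) = ω ⟨x, hx⟩ ∧
      ((e2 (g x) : χR.range) : Ω) = ω ⟨x, hx⟩ := fun x hx => by
    refine ⟨?_, ?_⟩
    · show ψ ⟨x, _⟩ = _
      exact hψag x hx _
    · show χ ⟨(g x : R), _⟩ = χ ⟨φY ⟨x, hx⟩, _⟩
      rfl
  have hY2le : ∀ z ∈ Y2, ∃ x : R, ∃ hx : (x : Ω) ∈ Y, ω ⟨x, hx⟩ = z := fun z hz => by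
    rw [← hωr] at hz
    obtain ⟨y, rfl⟩ := hz
    exact ⟨Subgroup.inclusion hYR y, y.2, rfl⟩
  have hmemY2 : ∀ x : R, (hx : (x : Ω) ∈ Y) → ω ⟨x, hx⟩ ∈ Y2 := fun x hx => hωr ▸ ⟨_, rfl⟩
  refine ⟨ψR.range, χR.range, Y2, e1, e2, he1, he2, fun z hz => ?_, ?_, ?_, ⟨ω, hωm, hωr⟩,
    (IsoIn.symm (mem_of_eq (hle _ he1) fun _ => rfl)).trans
      ((isoIn_aut hRS hg).trans (mem_of_eq (hle _ he2) fun _ => rfl)), fun x hx => ?_, fun x hx => ?_⟩
  · obtain ⟨x, hx, rfl⟩ := hY2le z hz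
    rw [← (hval x hx).1]
    exact (e1 x).2
  · have key : ∀ a ∈ ψR.range, ∀ z ∈ Y2, a * z * a⁻¹ ∈ Y2 := by
      rintro _ ⟨r, rfl⟩ z hz
      obtain ⟨x, hx, rfl⟩ := hY2le z hz
      have h1 : ((r * x * r⁻¹ : R) : Ω) ∈ Y := conj_mem_of_normalizer (hYn r.2) hx
      have h2 := hmemY2 _ h1
      rw [← (hval _ h1).1, map_mul, map_mul, map_inv] at h2
      rw [← (hval x hx).1]
      exact h2
    intro a ha
    refine Subgroup.mem_normalizer_iff.2 fun z => ⟨key a ha z, fun hz => ?_⟩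
    simpa [mul_assoc] using key a⁻¹ (inv_mem ha) _ hz
  · have key : ∀ a ∈ χR.range, ∀ z ∈ Y2, a * z * a⁻¹ ∈ Y2 := by
      rintro _ ⟨r, rfl⟩ z hz
      obtain ⟨x, hx, rfl⟩ := hY2le z hz
      obtain ⟨r0, rfl⟩ := g.surjective r
      have h1 : ((r0 * x * r0⁻¹ : R) : Ω) ∈ Y := conj_mem_of_normalizer (hYn r0.2) hx
      have h2 := hmemY2 _ h1
      rw [← (hval _ h1).2, map_mul, map_mul, map_inv, map_mul, map_mul, map_inv] at h2
      rw [← (hval x hx).2]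
      exact h2
    intro a ha
    refine Subgroup.mem_normalizer_iff.2 fun z => ⟨key a ha z, fun hz => ?_⟩
    simpa [mul_assoc] using key a⁻¹ (inv_mem ha) _ hz
  · obtain ⟨y, hy, hyx⟩ := hY2le _ hx
    have h1 : e1 y = x := Subtype.ext ((hval y hy).1.trans hyx)
    rw [← h1, MulEquiv.symm_apply_apply, (hval y hy).1, (hval y hy).2]
  · exact ⟨(hval x hx).1.trans (hval x hx).2.symm, (hval x hx).1.symm ▸ hmemY2 x hx⟩

end CfsgLib.SmallControl
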